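import Groth.Agent.UH57.Core

set_option autoImplicit false
universe u

namespace Groth.Agent.UH57

variable (hp : Prop)

/-- one elementary step over a set -/
def Step {B : Type u} [CommRing B] (S : Set B) (b : B) : Prop :=
  (b ^ 2 ∈ S ∧ b ^ 3 ∈ S) ∨ (hp ∧ ∃ ℓ : ℕ, ℓ.Prime ∧ (ℓ : B) * b ∈ S ∧ b ^ ℓ ∈ S)

variable {hp}

theorem Step.mono {B : Type u} [CommRing B] {S T : Set B} (h : S ⊆ T) {b : B}
    (hb : Step hp S b) : Step hp T b := by
  rcases hb with ⟨h2, h3⟩ | ⟨h0, ℓ, hℓ, h1, h2⟩
  · exact .inl ⟨h h2, h h3⟩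
  · exact .inr ⟨h0, ℓ, hℓ, h h1, h h2⟩

variable (hp) (A : Type u) [CommRing A] {B : Type u} [CommRing B] [Algebra A B]

/-- closure of the image of the base under elementary steps -/
inductive InCl : B → Prop
  | alg (a : A) : InCl (algebraMap A B a)
  | add {x y : B} : InCl x → InCl y → InCl (x + y)
  | mul {x y : B} : InCl x → InCl y → InCl (x * y)
  | sq {b : B} : InCl (b ^ 2) → InCl (b ^ 3) → InCl b
  | pr {b : B} (ℓ : ℕ) : hp → ℓ.Prime → InCl ((ℓ : B) * b) → InCl (b ^ ℓ) → InCl b

variable (B) in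
/-- the closure as a subalgebra -/
def cl : Subalgebra A B where
  carrier := {b | InCl hp A b}
  mul_mem' := InCl.mul
  add_mem' := InCl.add
  algebraMap_mem' := InCl.alg

variable {hp A}

theorem mem_cl {b : B} : b ∈ cl hp A B ↔ InCl hp A b := Iff.rfl

theorem InCl.of_step {S : Set B} {b : B} (hS : ∀ x ∈ S, InCl hp A x) (hb : Step hp S b) :
    InCl hp A b := by
  rcases hb with ⟨h2, h3⟩ | ⟨h0, ℓ, hℓ, h1, h2⟩
  · exact .sq (hS _ h2) (hS _ h3)
  · exact .pr ℓ h0 hℓ (hS _ h1) (hS _ h2)

theorem InCl.map {C : Type u} [CommRing C] [Algebra A C] (g : B →ₐ[A] C) {b : B}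
    (h : InCl hp A b) : InCl hp A (g b) := by
  induction h with
  | alg a => rw [AlgHom.commutes]; exact .alg a
  | add _ _ ih1 ih2 => rw [map_add]; exact .add ih1 ih2
  | mul _ _ ih1 ih2 => rw [map_mul]; exact .mul ih1 ih2
  | sq _ _ ih1 ih2 => rw [map_pow] at ih1 ih2; exact .sq ih1 ih2
  | pr ℓ h0 hℓ _ _ ih1 ih2 =>
    rw [map_mul, map_natCast] at ih1; rw [map_pow] at ih2; exact .pr ℓ h0 hℓ ih1 ih2

theorem InCl.of_cl {C : Subalgebra A B} (hC : C = cl hp A B) (b : C) :
    InCl hp A b := by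
  obtain ⟨b, hb⟩ := b
  subst hC
  induction (hb : InCl hp A b) with
  | alg a => exact .alg a
  | add h1 h2 ih1 ih2 => exact .add ih1 ih2
  | mul h1 h2 ih1 ih2 => exact .mul ih1 ih2
  | sq h1 h2 ih1 ih2 => exact .sq ih1 ih2
  | pr ℓ h0 hℓ h1 h2 ih1 ih2 =>
    refine .pr ℓ h0 hℓ ?_ ih2
    convert ih1
    simp

theorem InCl.isIntegral {b : B} (h : InCl hp A b) : IsIntegral A b := by
  induction h with
  | alg a => exact isIntegral_algebraMap
  | add _ _ ih1 ih2 => exact ih1.add ih2
  | mul _ _ ih1 ih2 => exact ih1.mul ih2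
  | sq _ _ ih1 _ => exact IsIntegral.of_pow two_pos ih1
  | pr ℓ _ hℓ _ _ _ ih2 => exact IsIntegral.of_pow hℓ.pos ih2

theorem InCl.hom_eq {K : Type u} [Field K] {g₁ g₂ : B →+* K}
    (e : g₁.comp (algebraMap A B) = g₂.comp (algebraMap A B)) {b : B} (h : InCl hp A b) :
    g₁ b = g₂ b := by
  induction h with
  | alg a => exact congr($e a)
  | add _ _ ih1 ih2 => rw [map_add, map_add, ih1, ih2]
  | mul _ _ ih1 ih2 => rw [map_mul, map_mul, ih1, ih2]
  | @sq b _ _ ih1 ih2 =>
    rw [map_pow, map_pow] at ih1 ih2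
    by_cases h0 : g₁ b = 0
    · rw [h0, zero_pow two_ne_zero] at ih1
      rw [h0, pow_eq_zero_iff two_ne_zero |>.1 ih1.symm]
    · rw [pow_succ, ih1, pow_succ (g₂ b) 2] at ih2
      exact mul_left_cancel₀ (by rw [← ih1]; exact pow_ne_zero _ h0) ih2
  | @pr b ℓ _ hℓ _ _ ih1 ih2 =>
    rw [map_mul, map_mul, map_natCast, map_natCast] at ih1
    rw [map_pow, map_pow] at ih2
    by_cases h0 : (ℓ : K) = 0
    · have : Fact ℓ.Prime := ⟨hℓ⟩
      have : CharP K ℓ := (CharP.charP_iff_prime_eq_zero hℓ).2 h0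
      exact frobenius_inj K ℓ (by simpa [frobenius_def] using ih2)
    · exact mul_left_cancel₀ h0 ih1

theorem InCl.tr (hhp : ¬ hp) {Q : Ideal B} (hQ : Q.IsPrime) {b : B} (h : InCl hp A b) :
    ∃ a s : A, algebraMap A B s ∉ Q ∧ algebraMap A B s * b - algebraMap A B a ∈ Q := by
  have h1 : (1 : B) ∉ Q := (Ideal.ne_top_iff_one Q).1 hQ.ne_top
  induction h with
  | alg a => exact ⟨a, 1, by simpa using h1, by simp⟩
  | @add x y _ _ ih1 ih2 =>
    obtain ⟨a, s, hs, h⟩ := ih1
    obtain ⟨a', s', hs', h'⟩ := ih2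
    refine ⟨s' * a + s * a', s * s', by rw [map_mul]; exact hQ.mul_notMem hs hs', ?_⟩
    have := Q.add_mem (Q.mul_mem_left (algebraMap A B s') h) (Q.mul_mem_left (algebraMap A B s) h')
    convert this using 1
    simp only [map_add, map_mul]; ring
  | @mul x y _ _ ih1 ih2 =>
    obtain ⟨a, s, hs, h⟩ := ih1
    obtain ⟨a', s', hs', h'⟩ := ih2
    refine ⟨a * a', s * s', by rw [map_mul]; exact hQ.mul_notMem hs hs', ?_⟩
    have := Q.add_mem (Q.mul_mem_left (algebraMap A B s' * y) h) (Q.mul_mem_left (algebraMap A B a) h')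
    convert this using 1
    simp only [map_mul]; ring
  | @sq b _ _ ih1 ih2 =>
    by_cases hb : b ∈ Q
    · exact ⟨0, 1, by simpa using h1, by simpa using hb⟩
    obtain ⟨a, s, hs, h⟩ := ih1
    obtain ⟨a', s', hs', h'⟩ := ih2
    have ha : algebraMap A B a ∉ Q := fun ha => by
      have := Q.add_mem h ha
      rw [sub_add_cancel] at this
      exact (hQ.mem_or_mem this).elim hs fun h2 => hb (hQ.mem_of_pow_mem 2 h2)
    refine ⟨s * a', s' * a, by rw [map_mul]; exact hQ.mul_notMem hs' ha, ?_⟩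
    have := Q.sub_mem (Q.mul_mem_left (algebraMap A B s) h')
      (Q.mul_mem_left (algebraMap A B s' * b) h)
    convert this using 1
    simp only [map_mul]; ring
  | pr ℓ h0 => exact absurd h0 hhp

theorem hInj_of_all (h : ∀ b : B, InCl hp A b) : HInj A B :=
  fun _ _ _ _ e => RingHom.ext fun b => (h b).hom_eq e

theorem ri_of_all (h : ∀ b : B, InCl hp A b) : RI A B := hInj_iff.1 (hInj_of_all h)

theorem integral_of_all (h : ∀ b : B, InCl hp A b) : Algebra.IsIntegral A B :=
  ⟨fun b => (h b).isIntegral⟩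

theorem tr_of_all (hhp : ¬ hp) (h : ∀ b : B, InCl hp A b) : TR A B :=
  fun _ hQ b => (h b).tr hhp hQ

theorem all_of_ri (hhp : hp ∨ TR A B) (hi : Algebra.IsIntegral A B) (hri : RI A B) (b : B) :
    InCl hp A b := by
  by_contra hb
  obtain ⟨c, hc, h | ⟨hn, ℓ, hℓ, h1, h2⟩⟩ := exists_step hi hri (cl hp A B) (b₀ := b) hb
  · exact hc (.sq h.1 h.2)
  · exact hc (.pr ℓ (hhp.resolve_right hn) hℓ h1 h2)

variable (hp A)

/-- a list each of whose members is an elementary step over the previous ones -/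
inductive Tower : List B → Prop
  | nil : Tower []
  | snoc {l : List B} {b : B} : Tower l →
      Step hp (Algebra.adjoin A {x : B | x ∈ l}) b → Tower (l ++ [b])

variable {hp A}

theorem Tower.append {l l' : List B} (h : Tower hp A l) (h' : Tower hp A l') :
    Tower hp A (l ++ l') := by
  induction h' with
  | nil => simpa using h
  | @snoc l' b _ hb ih =>
    rw [← List.append_assoc]
    exact .snoc ih (hb.mono (Algebra.adjoin_mono fun x hx => List.mem_append_right _ hx))

theorem Tower.inCl {l : List B} (h : Tower hp A l) :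
    ∀ x ∈ Algebra.adjoin A {x : B | x ∈ l}, InCl hp A x := by
  induction h with
  | nil =>
    exact fun x hx => (Algebra.adjoin_le (S := cl hp A B) (by simp) : _) hx
  | @snoc l b _ hb ih =>
    intro x hx
    refine (Algebra.adjoin_le (S := cl hp A B) (fun y hy => ?_) : _) hx
    rcases List.mem_append.1 hy with hy | hy
    · exact ih y (Algebra.subset_adjoin hy)
    · obtain rfl := List.mem_singleton.1 hy
      exact InCl.of_step ih hb

theorem InCl.exists_tower {b : B} (h : InCl hp A b) :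
    ∃ l : List B, Tower hp A l ∧ b ∈ Algebra.adjoin A {x : B | x ∈ l} := by
  have L : ∀ l l' : List B, Algebra.adjoin A {x : B | x ∈ l} ≤
      Algebra.adjoin A {x : B | x ∈ l ++ l'} :=
    fun l l' => Algebra.adjoin_mono fun x hx => List.mem_append_left _ hx
  have R : ∀ l l' : List B, Algebra.adjoin A {x : B | x ∈ l'} ≤
      Algebra.adjoin A {x : B | x ∈ l ++ l'} :=
    fun l l' => Algebra.adjoin_mono fun x hx => List.mem_append_right _ hx
  induction h with
  | alg a => exact ⟨[], .nil, Subalgebra.algebraMap_mem _ a⟩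
  | add _ _ ih1 ih2 =>
    obtain ⟨l, hl, h⟩ := ih1
    obtain ⟨l', hl', h'⟩ := ih2
    exact ⟨l ++ l', hl.append hl', add_mem (L _ _ h) (R _ _ h')⟩
  | mul _ _ ih1 ih2 =>
    obtain ⟨l, hl, h⟩ := ih1
    obtain ⟨l', hl', h'⟩ := ih2
    exact ⟨l ++ l', hl.append hl', mul_mem (L _ _ h) (R _ _ h')⟩
  | @sq b _ _ ih1 ih2 =>
    obtain ⟨l, hl, h⟩ := ih1
    obtain ⟨l', hl', h'⟩ := ih2
    exact ⟨l ++ l' ++ [b], .snoc (hl.append hl') (.inl ⟨L _ _ h, R _ _ h'⟩),
      Algebra.subset_adjoin (List.mem_append_right _ (List.mem_singleton_self b))⟩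
  | @pr b ℓ h0 hℓ _ _ ih1 ih2 =>
    obtain ⟨l, hl, h⟩ := ih1
    obtain ⟨l', hl', h'⟩ := ih2
    exact ⟨l ++ l' ++ [b], .snoc (hl.append hl') (.inr ⟨h0, ℓ, hℓ, L _ _ h, R _ _ h'⟩),
      Algebra.subset_adjoin (List.mem_append_right _ (List.mem_singleton_self b))⟩

theorem exists_tower_finset (h : ∀ b : B, InCl hp A b) (E : Finset B) :
    ∃ l : List B, Tower hp A l ∧ (E : Set B) ⊆ Algebra.adjoin A {x : B | x ∈ l} := by
  classical
  induction E using Finset.induction_on with
  | empty => exact ⟨[], .nil, by simp⟩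
  | @insert b E _ ih =>
    obtain ⟨l, hl, hE⟩ := ih
    obtain ⟨l', hl', hb⟩ := (h b).exists_tower
    refine ⟨l ++ l', hl.append hl', ?_⟩
    rw [Finset.coe_insert, Set.insert_subset_iff]
    exact ⟨Algebra.adjoin_mono (fun x hx => List.mem_append_right _ hx) hb,
      hE.trans (Algebra.adjoin_mono fun x hx => List.mem_append_left _ hx)⟩

theorem tower_iff {l : List B} :
    Tower hp A l ↔ ∀ i : Fin l.length,
      Step hp (Algebra.adjoin A {b : B | ∃ j : Fin l.length, j < i ∧ b = l.get j}) (l.get i) := by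
  induction l using List.reverseRec with
  | nil => exact ⟨fun _ i => i.elim0, fun _ => .nil⟩
  | append_singleton l b ih =>
    have key : ∀ (n : ℕ), n ≤ l.length →
        {x : B | ∃ j : Fin (l ++ [b]).length, j.1 < n ∧ x = (l ++ [b]).get j} =
        {x : B | ∃ j : Fin l.length, j.1 < n ∧ x = l.get j} := by
      intro n hn
      ext x
      constructor
      · rintro ⟨j, hj, rfl⟩
        refine ⟨⟨j.1, by omega⟩, hj, ?_⟩
        simp [List.getElem_append_left (show j.1 < l.length by omega)]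
      · rintro ⟨j, hj, rfl⟩
        refine ⟨⟨j.1, by simp⟩, hj, ?_⟩
        simp [List.getElem_append_left j.2]
    have hall : {x : B | ∃ j : Fin l.length, j.1 < l.length ∧ x = l.get j} = {x | x ∈ l} := by
      ext x
      exact ⟨fun ⟨j, _, hj⟩ => hj ▸ List.get_mem l j,
        fun hx => let ⟨j, hj⟩ := List.get_of_mem hx; ⟨j, j.2, hj.symm⟩⟩
    constructor
    · intro h
      generalize hm : l ++ [b] = m at h
      cases h with
      | nil => simp at hm
      | @snoc l' b' hl' hb' =>
        obtain ⟨rfl, hbb⟩ := List.append_inj' hm rfl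
        obtain rfl : b = b' := by simpa using hbb
        intro i
        simp only [Fin.lt_def]
        rcases lt_or_eq_of_le (show i.1 ≤ l.length by have := i.2; simp at this; omega) with hi | hi
        · rw [key _ hi.le]
          have := (ih.1 hl') ⟨i.1, hi⟩
          simp only [Fin.lt_def, List.get_eq_getElem] at this ⊢
          rw [List.getElem_append_left hi]
          exact this
        · rw [key _ hi.le, hi, hall]
          convert hb' using 1
          simp [hi]
    · intro h
      refine .snoc (ih.2 fun i => ?_) ?_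
      · have := h ⟨i.1, by simp⟩
        simp only [Fin.lt_def] at this ⊢
        rw [key _ i.2.le] at this
        simp only [List.get_eq_getElem, List.getElem_append_left i.2] at this ⊢
        exact this
      · have := h ⟨l.length, by simp⟩
        simp only [Fin.lt_def] at this
        rw [key _ le_rfl, hall] at this
        simpa using this

end Groth.Agent.UH57
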