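import Groth.Prelude.Def_Flat
import Mathlib.AlgebraicGeometry.Morphisms.Integral
import Mathlib.AlgebraicGeometry.Morphisms.UniversallyInjective
import Mathlib.AlgebraicGeometry.ResidueField
import Mathlib.FieldTheory.PurelyInseparable.Basic
import Mathlib.RingTheory.Spectrum.Prime.Topology
import Mathlib.RingTheory.Ideal.GoingUp

set_option autoImplicit false
universe u
open CategoryTheory AlgebraicGeometry

namespace Groth.Agent.UH57

section Alg
variable (A B : Type u) [CommRing A] [CommRing B] [Algebra A B]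

/-- trivial residue field extensions, elementwise -/
def TR : Prop :=
  ∀ Q : Ideal B, Q.IsPrime → ∀ b : B, ∃ a s : A,
    algebraMap A B s ∉ Q ∧ algebraMap A B s * b - algebraMap A B a ∈ Q

/-- purely inseparable residue field extensions, elementwise -/
def PI : Prop :=
  ∀ Q : Ideal B, Q.IsPrime → ∀ b : B, ∃ a s : A, algebraMap A B s ∉ Q ∧
    (algebraMap A B s * b - algebraMap A B a ∈ Q ∨ ∃ ℓ n : ℕ, ℓ.Prime ∧ (ℓ : B) ∈ Q ∧
      algebraMap A B s * b ^ ℓ ^ n - algebraMap A B a ∈ Q)

/-- injectivity on field-valued points -/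
def HInj : Prop :=
  ∀ (K : Type u) [Field K] (g₁ g₂ : B →+* K),
    g₁.comp (algebraMap A B) = g₂.comp (algebraMap A B) → g₁ = g₂

/-- radicial -/
def RI : Prop := Function.Injective (PrimeSpectrum.comap (algebraMap A B)) ∧ PI A B

variable {A B}

theorem TR.pi (h : TR A B) : PI A B := fun Q hQ b =>
  let ⟨a, s, hs, he⟩ := h Q hQ b
  ⟨a, s, hs, .inl he⟩

theorem RI.hInj (h : RI A B) : HInj A B := by
  intro K _ g₁ g₂ e
  have hk : RingHom.ker g₁ = RingHom.ker g₂ := by
    have := h.1 (a₁ := ⟨RingHom.ker g₁, RingHom.ker_isPrime g₁⟩)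
      (a₂ := ⟨RingHom.ker g₂, RingHom.ker_isPrime g₂⟩) (by
        ext x
        simp only [PrimeSpectrum.comap_asIdeal, Ideal.mem_comap, RingHom.mem_ker]
        rw [show g₁ (algebraMap A B x) = g₂ (algebraMap A B x) from congr($e x)])
    exact congrArg PrimeSpectrum.asIdeal this
  ext b
  obtain ⟨a, s, hs, hh⟩ := h.2 _ (RingHom.ker_isPrime g₁) b
  have ha : g₁ (algebraMap A B a) = g₂ (algebraMap A B a) := congr($e a)
  have hs' : g₁ (algebraMap A B s) = g₂ (algebraMap A B s) := congr($e s)
  have hsne : g₁ (algebraMap A B s) ≠ 0 := hs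
  rcases hh with hh | ⟨ℓ, n, hℓ, hℓQ, hh⟩
  · have h1 : g₁ _ = 0 := hh
    rw [hk] at hh
    have h2 : g₂ _ = 0 := hh
    simp only [map_sub, map_mul, sub_eq_zero] at h1 h2
    rw [← ha, ← hs', ← h1] at h2
    exact (mul_left_cancel₀ hsne h2).symm
  · have h1 : g₁ _ = 0 := hh
    rw [hk] at hh
    have h2 : g₂ _ = 0 := hh
    simp only [map_sub, map_mul, map_pow, sub_eq_zero] at h1 h2
    rw [← ha, ← hs', ← h1] at h2
    have h3 := (mul_left_cancel₀ hsne h2).symm
    have : Fact ℓ.Prime := ⟨hℓ⟩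
    have : CharP K ℓ := (CharP.charP_iff_prime_eq_zero hℓ).2
      (by simpa using (show g₁ (ℓ : B) = 0 from hℓQ))
    exact iterateFrobenius_inj K ℓ n (by simpa [iterateFrobenius_def] using h3)

theorem ker_le_nilradical_iff (hi : Algebra.IsIntegral A B) :
    Function.Surjective (PrimeSpectrum.comap (algebraMap A B)) ↔
      RingHom.ker (algebraMap A B) ≤ nilradical A := by
  constructor
  · intro h a ha
    rw [nilradical_eq_sInf, Ideal.mem_sInf]
    intro p hp
    obtain ⟨q, hq⟩ := h ⟨p, hp⟩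
    have : p = q.asIdeal.comap (algebraMap A B) := (congrArg PrimeSpectrum.asIdeal hq).symm
    rw [this, Ideal.mem_comap, RingHom.mem_ker.1 ha]
    exact zero_mem _
  · intro h p
    obtain ⟨q, -, hq, e⟩ := Ideal.exists_ideal_over_prime_of_isIntegral (S := B) p.asIdeal ⊥
      (h.trans (nilradical_le_prime p.asIdeal))
    exact ⟨⟨q, hq⟩, PrimeSpectrum.ext e⟩

end Alg

section Scheme

/-- the canonical map to the residue field of a point of the spectrum -/
noncomputable def ev (A : Type u) [CommRing A] (x : Spec (CommRingCat.of A)) :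
    A →+* (Spec (CommRingCat.of A)).residueField x :=
  ((Scheme.ΓSpecIso (CommRingCat.of A)).inv ≫ (Spec (CommRingCat.of A)).Γevaluation x).hom

variable {A B : Type u} [CommRing A] [CommRing B]

private theorem isPrime_spec (x : Spec (CommRingCat.of A)) : (PrimeSpectrum.asIdeal x).IsPrime :=
  PrimeSpectrum.isPrime x

attribute [local instance] isPrime_spec

theorem ev_apply (x : Spec (CommRingCat.of A)) (r : A) :
    ev A x r = (Scheme.Spec.residueFieldIso (CommRingCat.of A) x).inv.hom
      (algebraMap A (PrimeSpectrum.asIdeal x).ResidueField r) :=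
  (congr($(Scheme.Spec.algebraMap_residueFieldIso_inv (CommRingCat.of A) x) r)).symm

theorem ev_eq_zero {x : Spec (CommRingCat.of A)} {r : A} :
    ev A x r = 0 ↔ r ∈ PrimeSpectrum.asIdeal x := by
  rw [ev_apply, map_eq_zero]
  exact Ideal.algebraMap_residueField_eq_zero

theorem ev_surj (x : Spec (CommRingCat.of A)) (z : (Spec (CommRingCat.of A)).residueField x) :
    ∃ a s : A, ev A x s ≠ 0 ∧ ev A x s * z = ev A x a := by
  let P : PrimeSpectrum A := x
  obtain ⟨⟨a, s⟩, h⟩ := IsLocalization.surj (nonZeroDivisors (A ⧸ P.asIdeal))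
    (show P.asIdeal.ResidueField from
      (Scheme.Spec.residueFieldIso (CommRingCat.of A) x).hom z)
  obtain ⟨a', rfl⟩ := Ideal.Quotient.mk_surjective a
  obtain ⟨s', hs'⟩ := Ideal.Quotient.mk_surjective (s : A ⧸ P.asIdeal)
  refine ⟨a', s', ?_, ?_⟩
  · rw [Ne, ev_eq_zero, ← Ideal.Quotient.eq_zero_iff_mem, hs']
    exact nonZeroDivisors.ne_zero s.2
  · simp only [← hs', Ideal.algebraMap_quotient_residueField_mk] at h
    have h2 := congr((Scheme.Spec.residueFieldIso (CommRingCat.of A) x).inv.hom $h)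
    rw [map_mul] at h2
    rw [ev_apply, ev_apply]
    erw [← h2, Iso.hom_inv_id_apply]
    ring

theorem ev_natural (φ : A →+* B) (x : Spec (CommRingCat.of B)) (r : A) :
    (Spec.map (CommRingCat.ofHom φ)).residueFieldMap x
        (ev A ((Spec.map (CommRingCat.ofHom φ)) x) r) = ev B x (φ r) := by
  simp only [ev, CommRingCat.hom_comp, RingHom.comp_apply]
  erw [Scheme.Γevaluation_naturality_apply]
  congr 1
  exact (congr($(Scheme.ΓSpecIso_inv_naturality (CommRingCat.ofHom φ)) r)).symm

variable [Algebra A B]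

local notation "fS" => Spec.map (CommRingCat.ofHom (algebraMap A B))

theorem residueFieldMap_surjective_iff :
    (∀ x : Spec (CommRingCat.of B), Function.Surjective ((fS).residueFieldMap x)) ↔ TR A B := by
  constructor
  · intro h Q hQ b
    let x : Spec (CommRingCat.of B) := ⟨Q, hQ⟩
    obtain ⟨z, hz⟩ := h x (ev B x b)
    obtain ⟨a, s, hs, e⟩ := ev_surj _ z
    refine ⟨a, s, ?_, ?_⟩
    · intro hsQ
      apply hs
      apply ((fS).residueFieldMap x).hom.injective
      rw [map_zero, ev_natural, ev_eq_zero]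
      exact hsQ
    · have := congr(((fS).residueFieldMap x) $e)
      rw [map_mul, ev_natural, ev_natural, hz, ← map_mul, ← sub_eq_zero, ← map_sub] at this
      exact ev_eq_zero.1 this
  · intro h x z
    obtain ⟨b, t, ht, e⟩ := ev_surj x z
    obtain ⟨a, s, hs, h1⟩ := h _ x.isPrime b
    obtain ⟨a', s', hs', h2⟩ := h _ x.isPrime t
    rw [← ev_eq_zero, map_sub, map_mul, sub_eq_zero] at h1 h2
    have hsn : ev B x (algebraMap A B s) ≠ 0 := fun h => hs (ev_eq_zero.1 h)
    have hs'n : ev B x (algebraMap A B s') ≠ 0 := fun h => hs' (ev_eq_zero.1 h)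
    have ha'n : ev B x (algebraMap A B a') ≠ 0 := by
      rw [← h2]; exact mul_ne_zero hs'n ht
    refine ⟨ev A _ (a * s') / ev A _ (s * a'), ?_⟩
    rw [map_div₀, ev_natural, ev_natural, div_eq_iff
      (by rw [map_mul, map_mul]; exact mul_ne_zero hsn ha'n)]
    simp only [map_mul]
    rw [← h1, ← h2, ← e]
    ring

theorem pi_of_residueFieldMap
    (h : ∀ x, ((fS).residueFieldMap x).hom.IsPurelyInseparable) : PI A B := by
  intro Q hQ b
  let x : Spec (CommRingCat.of B) := ⟨Q, hQ⟩
  let F := (Spec (CommRingCat.of A)).residueField ((fS) x)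
  letI := ((fS).residueFieldMap x).hom.toAlgebra
  have : IsPurelyInseparable F ((Spec (CommRingCat.of B)).residueField x) := h x
  obtain ⟨n, z, hz⟩ := IsPurelyInseparable.pow_mem F (ringExpChar F) (ev B x b)
  rw [RingHom.algebraMap_toAlgebra] at hz
  obtain ⟨a, s, hs, e⟩ := ev_surj _ z
  refine ⟨a, s, ?_, ?_⟩
  · intro hsQ
    apply hs
    apply ((fS).residueFieldMap x).hom.injective
    rw [map_zero, ev_natural, ev_eq_zero]
    exact hsQ
  have h3 : algebraMap A B s * b ^ ringExpChar F ^ n - algebraMap A B a ∈ Q := by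
    have := congr(((fS).residueFieldMap x) $e)
    rw [map_mul, ev_natural, ev_natural, hz, ← map_pow, ← map_mul, ← sub_eq_zero, ← map_sub] at this
    exact ev_eq_zero.1 this
  have hcast : ((fS).residueFieldMap x).hom ((ringExpChar F : ℕ) : F) =
      ev B x ((ringExpChar F : ℕ) : B) := by rw [map_natCast, map_natCast]
  have hE : ExpChar F (ringExpChar F) := inferInstance
  generalize ringExpChar F = q at hE h3 hcast
  cases hE with
  | zero => rw [one_pow, pow_one] at h3; exact .inl h3
  | prime hq =>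
    refine .inr ⟨_, n, hq, ?_, h3⟩
    rw [CharP.cast_eq_zero, map_zero] at hcast
    exact (ev_eq_zero (x := x)).1 hcast.symm

theorem universallyInjective_iff : UniversallyInjective fS ↔ RI A B := by
  constructor
  · intro h
    obtain ⟨h1, h2⟩ := ((tfae_universallyInjective fS).out 0 2).1 h
    exact ⟨h1, pi_of_residueFieldMap h2⟩
  · intro h
    refine ((tfae_universallyInjective fS).out 1 0 rfl rfl).1 ?_
    intro K _ g₁ g₂ e
    obtain ⟨φ₁, rfl⟩ := Spec.map_surjective g₁
    obtain ⟨φ₂, rfl⟩ := Spec.map_surjective g₂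
    simp only [← Spec.map_comp, Spec.map_inj] at e
    rw [Spec.map_inj]
    exact CommRingCat.hom_ext (h.hInj K φ₁.hom φ₂.hom (congrArg CommRingCat.Hom.hom e))

theorem hInj_iff : HInj A B ↔ RI A B := by
  refine ⟨fun h => universallyInjective_iff.1 ?_, RI.hInj⟩
  refine ((tfae_universallyInjective fS).out 1 0 rfl rfl).1 ?_
  intro K _ g₁ g₂ e
  obtain ⟨φ₁, rfl⟩ := Spec.map_surjective g₁
  obtain ⟨φ₂, rfl⟩ := Spec.map_surjective g₂
  simp only [← Spec.map_comp, Spec.map_inj] at e
  rw [Spec.map_inj]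
  exact CommRingCat.hom_ext (h K φ₁.hom φ₂.hom (congrArg CommRingCat.Hom.hom e))

theorem universallyClosed_iff : UniversallyClosed fS ↔ Algebra.IsIntegral A B := by
  rw [Algebra.isIntegral_def]
  refine Iff.trans ?_ (IsIntegralHom.SpecMap_iff (φ := CommRingCat.ofHom (algebraMap A B)))
  rw [IsIntegralHom.iff_universallyClosed_and_isAffineHom]
  exact ⟨fun h => ⟨h, inferInstance⟩, And.left⟩

theorem isUnivHomeo_iff' {X Y : Scheme.{u}} (f : X ⟶ Y) :
    FlatMor.IsUnivHomeo f ↔ UniversallyClosed f ∧ UniversallyInjective f ∧ Surjective f := by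
  constructor
  · intro h
    refine ⟨⟨fun _ _ _ _ _ hp => (h _ _ _ hp).isClosedMap⟩,
      ⟨fun _ _ _ _ _ hp => (h _ _ _ hp).injective⟩, ⟨?_⟩⟩
    exact (h _ _ _ (IsPullback.of_id_snd (f := f))).surjective
  · rintro ⟨h1, h2, h3⟩ X' Y' g g' f' hp
    have a1 : UniversallyClosed f' := MorphismProperty.of_isPullback hp.flip h1
    have a2 : UniversallyInjective f' := MorphismProperty.of_isPullback hp.flip h2
    have a3 : Surjective f' := MorphismProperty.of_isPullback hp.flip h3
    exact isHomeomorph_iff_continuous_isClosedMap_bijective.2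
      ⟨f'.continuous, f'.isClosedMap, f'.injective, f'.surjective⟩

theorem isUnivHomeo_iff :
    FlatMor.IsUnivHomeo fS ↔
      Algebra.IsIntegral A B ∧ RI A B ∧ RingHom.ker (algebraMap A B) ≤ nilradical A := by
  rw [isUnivHomeo_iff', universallyClosed_iff, universallyInjective_iff, surjective_iff]
  constructor
  · rintro ⟨hi, hr, hs⟩
    exact ⟨hi, hr, (ker_le_nilradical_iff hi).1 hs⟩
  · rintro ⟨hi, hr, hs⟩
    exact ⟨hi, hr, (ker_le_nilradical_iff hi).2 hs⟩

end Scheme

end Groth.Agent.UH57
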