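import Groth.Agent.UH57.Cl
import Mathlib.Algebra.Category.Ring.FilteredColimits
import Mathlib.Algebra.Category.Ring.Under.Basic
import Mathlib.CategoryTheory.Limits.Constructions.Over.Connected
import Mathlib.CategoryTheory.Limits.ConcreteCategory.Basic
import Mathlib.RingTheory.FinitePresentation

set_option autoImplicit false
universe u
open CategoryTheory CategoryTheory.Limits AlgebraicGeometry

namespace Groth.Agent.UH57

section Inherit

theorem colim_inherits (A : CommRingCat.{u}) {J : Type u} [SmallCategory J]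
    [IsFiltered J] (F : J ⥤ Under A) (c : Limits.Cocone F) (hc : Limits.IsColimit c) :
    ((∀ j, FlatMor.IsUnivHomeo (Spec.map (F.obj j).hom)) → FlatMor.IsUnivHomeo (Spec.map c.pt.hom)) ∧
    ((∀ j, FlatMor.IsUnivHomeo (Spec.map (F.obj j).hom) ∧
        ∀ x : Spec (F.obj j).right, Function.Surjective ((Spec.map (F.obj j).hom).residueFieldMap x)) →
      FlatMor.IsUnivHomeo (Spec.map c.pt.hom) ∧
        ∀ x : Spec c.pt.right, Function.Surjective ((Spec.map c.pt.hom).residueFieldMap x)) ∧
    ((∀ j, UniversallyClosed (Spec.map (F.obj j).hom)) → UniversallyClosed (Spec.map c.pt.hom)) ∧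
    ((∀ j, UniversallyClosed (Spec.map (F.obj j).hom) ∧ UniversallyInjective (Spec.map (F.obj j).hom)) →
      UniversallyClosed (Spec.map c.pt.hom) ∧ UniversallyInjective (Spec.map c.pt.hom)) := by
  haveI : IsConnected J := IsFiltered.isConnected J
  let alg (j : J) : Algebra A (F.obj j).right := (F.obj j).hom.hom.toAlgebra
  let : Algebra A c.pt.right := c.pt.hom.hom.toAlgebra
  have hD : IsColimit ((Under.forget A).mapCocone c) := isColimitOfPreserves (Under.forget A) hc
  let ι (j : J) : (F.obj j).right →ₐ[A] c.pt.right :=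
    { (c.ι.app j).right.hom with commutes' := fun a => congr($(Under.w (c.ι.app j)) a) }
  have surj : ∀ b : c.pt.right, ∃ (j : J) (y : (F.obj j).right), ι j y = b := fun b =>
    Concrete.isColimit_exists_rep (F ⋙ Under.forget A) hD b
  have hker : ∀ a : A, a ∈ RingHom.ker (algebraMap A c.pt.right) →
      ∃ j : J, a ∈ RingHom.ker (algebraMap A (F.obj j).right) := fun a ha => by
    obtain ⟨j₀⟩ : Nonempty J := IsFiltered.nonempty
    obtain ⟨k, f, g, h⟩ := Concrete.isColimit_exists_of_rep_eq (F ⋙ Under.forget A) hD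
      (i := j₀) (j := j₀) (algebraMap A (F.obj j₀).right a) (0 : (F.obj j₀).right) (by
        refine ((ι j₀).commutes a).trans (Eq.trans ?_ (map_zero (ι j₀)).symm)
        exact ha)
    refine ⟨k, ?_⟩
    refine (congr($(Under.w (F.map f)) a)).symm.trans (h.trans ?_)
    exact map_zero (F.map g).right.hom
  have hint : (∀ j, Algebra.IsIntegral A (F.obj j).right) → Algebra.IsIntegral A c.pt.right :=
    fun h => ⟨fun b => by
      obtain ⟨j, y, rfl⟩ := surj b
      exact ((h j).1 y).map (ι j)⟩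
  have hri : (∀ j, RI A (F.obj j).right) → RI A c.pt.right := fun h => hInj_iff.1
    fun K _ g₁ g₂ e => RingHom.ext fun b => by
      obtain ⟨j, y, rfl⟩ := surj b
      refine congr($((h j).hInj K (g₁.comp (ι j).toRingHom) (g₂.comp (ι j).toRingHom) ?_) y)
      ext a
      simpa using congr($e a)
  have hnil : (∀ j, RingHom.ker (algebraMap A (F.obj j).right) ≤ nilradical A) →
      RingHom.ker (algebraMap A c.pt.right) ≤ nilradical A := fun h a ha =>
    let ⟨j, hj⟩ := hker a ha
    h j hj
  have htr : (∀ j, TR A (F.obj j).right) → TR A c.pt.right := fun h Q hQ b => by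
    obtain ⟨j, y, rfl⟩ := surj b
    obtain ⟨a, s, hs, he⟩ := h j _ (hQ.comap (ι j)) y
    exact ⟨a, s, by simpa using hs, by simpa using he⟩
  have e1 : ∀ j, FlatMor.IsUnivHomeo (Spec.map (F.obj j).hom) ↔ _ :=
    fun j => isUnivHomeo_iff (A := A) (B := (F.obj j).right)
  have e2 : ∀ j, (∀ x : Spec (F.obj j).right,
      Function.Surjective ((Spec.map (F.obj j).hom).residueFieldMap x)) ↔ _ :=
    fun j => residueFieldMap_surjective_iff (A := A) (B := (F.obj j).right)
  have e3 : ∀ j, UniversallyClosed (Spec.map (F.obj j).hom) ↔ _ :=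
    fun j => universallyClosed_iff (A := A) (B := (F.obj j).right)
  have e4 : ∀ j, UniversallyInjective (Spec.map (F.obj j).hom) ↔ _ :=
    fun j => universallyInjective_iff (A := A) (B := (F.obj j).right)
  refine ⟨fun h => ?_, fun h => ⟨?_, ?_⟩, fun h => ?_, fun h => ⟨?_, ?_⟩⟩
  · exact (isUnivHomeo_iff (A := A) (B := c.pt.right)).2
      ⟨hint fun j => ((e1 j).1 (h j)).1, hri fun j => ((e1 j).1 (h j)).2.1,
        hnil fun j => ((e1 j).1 (h j)).2.2⟩
  · exact (isUnivHomeo_iff (A := A) (B := c.pt.right)).2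
      ⟨hint fun j => ((e1 j).1 (h j).1).1, hri fun j => ((e1 j).1 (h j).1).2.1,
        hnil fun j => ((e1 j).1 (h j).1).2.2⟩
  · exact (residueFieldMap_surjective_iff (A := A) (B := c.pt.right)).2
      (htr fun j => (e2 j).1 (h j).2)
  · exact (universallyClosed_iff (A := A) (B := c.pt.right)).2 (hint fun j => (e3 j).1 (h j))
  · exact (universallyClosed_iff (A := A) (B := c.pt.right)).2 (hint fun j => (e3 j).1 (h j).1)
  · exact (universallyInjective_iff (A := A) (B := c.pt.right)).2 (hri fun j => (e4 j).1 (h j).2)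

end Inherit

section Presentation

open MvPolynomial

variable {A B : Type u} [CommRing A] [CommRing B] [Algebra A B] (hp : Prop)

/-- finite stages of presentations of the algebra -/
structure Idx (A B : Type u) [CommRing A] [CommRing B] [Algebra A B] : Type u where
  E : Finset B
  R : Finset (MvPolynomial E A)
  hR : ∀ r ∈ R, aeval (fun e : E => (e : B)) r = 0

namespace Idx

variable (i : Idx A B)

/-- the finitely presented algebra of a stage -/
abbrev Q : Type u := MvPolynomial i.E A ⧸ Ideal.span (i.R : Set (MvPolynomial i.E A))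

/-- the map to the algebra -/
noncomputable def ev : i.Q →ₐ[A] B :=
  Ideal.Quotient.liftₐ _ (aeval fun e : i.E => (e : B))
    (fun r hr => (Ideal.span_le (I := RingHom.ker (aeval fun e : i.E => (e : B)))).2
      (fun x hx => i.hR x hx) hr)

theorem ev_mk (q : MvPolynomial i.E A) :
    i.ev (Ideal.Quotient.mk _ q) = aeval (fun e : i.E => (e : B)) q := rfl

/-- renaming of variables along an inclusion -/
noncomputable def ren {E E' : Finset B} (h : E ⊆ E') : MvPolynomial E A →ₐ[A] MvPolynomial E' A :=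
  rename fun e => ⟨e.1, h e.2⟩

theorem aeval_ren {E E' : Finset B} (h : E ⊆ E') (q : MvPolynomial E A) :
    aeval (fun e : E' => (e : B)) (ren h q) = aeval (fun e : E => (e : B)) q := by
  rw [ren, aeval_rename]; rfl

theorem ren_id {E : Finset B} (h : E ⊆ E) (q : MvPolynomial E A) : ren h q = q :=
  rename_id_apply q

theorem ren_ren {E E' E'' : Finset B} (h : E ⊆ E') (h' : E' ⊆ E'') (q : MvPolynomial E A) :
    ren h' (ren h q) = ren (h.trans h') q := rename_rename _ _ q

instance : Preorder (Idx A B) where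
  le i j := ∃ h : i.E ⊆ j.E, ∀ r ∈ i.R, ren h r ∈ Ideal.span (j.R : Set (MvPolynomial j.E A))
  le_refl i := ⟨subset_rfl, fun r hr => by rw [ren_id]; exact Ideal.subset_span hr⟩
  le_trans i j k := fun ⟨h, hr⟩ ⟨h', hr'⟩ => ⟨h.trans h', fun r hr0 => by
    rw [← ren_ren h h']
    exact (Ideal.span_le (I := (Ideal.span (k.R : Set (MvPolynomial k.E A))).comap (ren h'))).2
      (fun x hx => hr' x hx) (hr r hr0)⟩

/-- transition maps -/
noncomputable def map {i j : Idx A B} (h : i ≤ j) : i.Q →ₐ[A] j.Q :=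
  Ideal.Quotient.liftₐ _ ((Ideal.Quotient.mkₐ A _).comp (ren h.1)) (fun r hr =>
    (Ideal.span_le (I := RingHom.ker ((Ideal.Quotient.mkₐ A _).comp (ren h.1)))).2
      (fun x hx => by
        obtain ⟨hE, hh⟩ := h
        exact Ideal.Quotient.eq_zero_iff_mem.2 (hh x hx)) hr)

theorem map_mk {i j : Idx A B} (h : i ≤ j) (q : MvPolynomial i.E A) :
    map h (Ideal.Quotient.mk _ q) = Ideal.Quotient.mk _ (ren h.1 q) := rfl

theorem ev_map {i j : Idx A B} (h : i ≤ j) (q : i.Q) : j.ev (map h q) = i.ev q := by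
  obtain ⟨q, rfl⟩ := Ideal.Quotient.mk_surjective q
  rw [map_mk, ev_mk, ev_mk, aeval_ren]

/-- all elements are obtained by elementary steps -/
def Good : Prop := ∀ q : i.Q, InCl hp A q

/-- class of a variable -/
noncomputable abbrev var (e : i.E) : i.Q := Ideal.Quotient.mk _ (X e)

variable {hp}

theorem good_iff : i.Good hp ↔ ∀ e, InCl hp A (i.var e) := by
  refine ⟨fun h e => h _, fun h q => ?_⟩
  obtain ⟨q, rfl⟩ := Ideal.Quotient.mk_surjective q
  induction q using MvPolynomial.induction_on with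
  | C a => exact .alg a
  | add p q hp hq => rw [map_add]; exact .add hp hq
  | mul_X p e hp => rw [map_mul]; exact .mul hp (h e)

open scoped Classical in
/-- enlarge a stage -/
noncomputable def enlarge (E : Finset B) (h : i.E ⊆ E) (S : Finset (MvPolynomial E A))
    (hS : ∀ r ∈ S, aeval (fun e : E => (e : B)) r = 0) : Idx A B where
  E := E
  R := i.R.image (ren h) ∪ S
  hR r hr := by
    rcases Finset.mem_union.1 hr with hr | hr
    · obtain ⟨x, hx, rfl⟩ := Finset.mem_image.1 hr
      rw [aeval_ren]; exact i.hR x hx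
    · exact hS r hr

open scoped Classical in
theorem le_enlarge (E : Finset B) (h : i.E ⊆ E) (S : Finset (MvPolynomial E A)) (hS) :
    i ≤ i.enlarge E h S hS :=
  ⟨h, fun _ hr => Ideal.subset_span
    (Finset.mem_union_left _ (Finset.mem_image_of_mem _ hr))⟩

open scoped Classical in
theorem enlarge_rel (E : Finset B) (h : i.E ⊆ E) (S : Finset (MvPolynomial E A)) (hS)
    (r : MvPolynomial E A) (hr : r ∈ S) :
    (Ideal.Quotient.mk _ r : (i.enlarge E h S hS).Q) = 0 :=
  Ideal.Quotient.eq_zero_iff_mem.2 (Ideal.subset_span (Finset.mem_union_right _ hr))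

open scoped Classical in
theorem enlarge_eq (E : Finset B) (h : i.E ⊆ E) (S : Finset (MvPolynomial E A)) (hS)
    (a b : MvPolynomial (i.enlarge E h S hS).E A) (hr : a - b ∈ S) :
    (Ideal.Quotient.mk _ a : (i.enlarge E h S hS).Q) = Ideal.Quotient.mk _ b :=
  Ideal.Quotient.eq.2 (Ideal.subset_span (Finset.mem_union_right _ hr))

open scoped Classical in
/-- union of two stages -/
noncomputable def sup (i j : Idx A B) : Idx A B :=
  i.enlarge (i.E ∪ j.E) Finset.subset_union_left (j.R.image (ren Finset.subset_union_right))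
    (fun r hr => by
      obtain ⟨x, hx, rfl⟩ := Finset.mem_image.1 hr
      rw [aeval_ren]; exact j.hR x hx)

open scoped Classical in
theorem le_sup_l (i j : Idx A B) : i ≤ i.sup j := i.le_enlarge _ _ _ _

open scoped Classical in
theorem le_sup_r (i j : Idx A B) : j ≤ i.sup j :=
  ⟨Finset.subset_union_right, fun _ hr => Ideal.subset_span
    (Finset.mem_union_right _ (Finset.mem_image_of_mem _ hr))⟩

open scoped Classical in
theorem good_sup {i j : Idx A B} (hi : i.Good hp) (hj : j.Good hp) : (i.sup j).Good hp := by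
  refine (good_iff _).2 fun e => ?_
  rcases Finset.mem_union.1 e.2 with he | he
  · convert (hi (i.var ⟨e, he⟩)).map (map (le_sup_l i j)) using 1
    rw [var, var, map_mk, ren, rename_X]
  · convert (hj (j.var ⟨e, he⟩)).map (map (le_sup_r i j)) using 1
    rw [var, var, map_mk, ren, rename_X]

open scoped Classical in
/-- adjoin an element with relations making it an elementary step -/
theorem exists_good_insert {i : Idx A B} (hi : i.Good hp) (b : B) (f : B → B) (g : B → B)
    (P₁ P₂ : ∀ {S : Type u} [CommRing S], S → S)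
    (hnat : ∀ {S T : Type u} [CommRing S] [CommRing T] (φ : S →+* T) (s : S),
      φ (P₁ s) = P₁ (φ s) ∧ φ (P₂ s) = P₂ (φ s))
    (hf : P₁ b = f b) (hg : P₂ b = g b)
    (hstep : ∀ {S : Type u} [CommRing S] [Algebra A S] (s : S),
      InCl hp A (P₁ s) → InCl hp A (P₂ s) → InCl hp A s)
    (q₁ q₂ : i.Q) (h₁ : i.ev q₁ = f b) (h₂ : i.ev q₂ = g b) :
    ∃ j : Idx A B, j.Good hp ∧ ∃ q : j.Q, j.ev q = b := by
  obtain ⟨p₁, rfl⟩ := Ideal.Quotient.mk_surjective q₁
  obtain ⟨p₂, rfl⟩ := Ideal.Quotient.mk_surjective q₂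
  rw [ev_mk] at h₁ h₂
  let E : Finset B := insert b i.E
  have hE : i.E ⊆ E := Finset.subset_insert _ _
  let v : MvPolynomial E A := X ⟨b, Finset.mem_insert_self _ _⟩
  let S : Finset (MvPolynomial E A) := {P₁ v - ren hE p₁, P₂ v - ren hE p₂}
  have hv : aeval (fun e : E => (e : B)) v = b := aeval_X _ _
  have hS : ∀ r ∈ S, aeval (fun e : E => (e : B)) r = 0 := by
    intro r hr
    have hn := hnat (aeval (fun e : E => (e : B))).toRingHom v
    simp only [AlgHom.toRingHom_eq_coe, RingHom.coe_coe, hv] at hn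
    simp only [S, Finset.mem_insert, Finset.mem_singleton] at hr
    rcases hr with rfl | rfl
    · rw [map_sub, hn.1, aeval_ren, hf, h₁, sub_self]
    · rw [map_sub, hn.2, aeval_ren, hg, h₂, sub_self]
  let j := i.enlarge E hE S hS
  have hle : i ≤ j := i.le_enlarge _ _ _ _
  have hold : ∀ p, InCl hp A (Ideal.Quotient.mk _ (ren hE p) : j.Q) := fun p =>
    (hi (Ideal.Quotient.mk _ p)).map (map hle)
  have hnew : InCl hp A (Ideal.Quotient.mk _ v : j.Q) := by
    have hn := hnat (Ideal.Quotient.mk (Ideal.span (j.R : Set (MvPolynomial j.E A)))) v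
    refine hstep _ ?_ ?_
    · rw [← hn.1]
      have := enlarge_eq i E hE S hS (P₁ v) (ren hE p₁) (Finset.mem_insert_self _ _)
      exact this ▸ hold p₁
    · rw [← hn.2]
      have := enlarge_eq i E hE S hS (P₂ v) (ren hE p₂) (Finset.mem_insert_of_mem (Finset.mem_singleton_self _))
      exact this ▸ hold p₂
  refine ⟨j, (good_iff _).2 fun e => ?_, Ideal.Quotient.mk _ v, hv⟩
  rcases Finset.mem_insert.1 e.2 with he | he
  · obtain rfl : e = ⟨b, Finset.mem_insert_self _ _⟩ := Subtype.ext he
    exact hnew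
  · convert hold (X ⟨e, he⟩) using 2
    rw [ren, rename_X]; rfl

open scoped Classical in
theorem exists_good (hker : RingHom.ker (algebraMap A B) ≤ nilradical A) {b : B}
    (h : InCl hp A b) : ∃ i : Idx A B, i.Good hp ∧ ∃ q : i.Q, i.ev q = b := by
  induction h with
  | alg a =>
    exact ⟨⟨∅, ∅, by simp⟩, (good_iff _).2 (fun e => absurd e.2 (Finset.notMem_empty _)),
      algebraMap A _ a, AlgHom.commutes _ a⟩
  | add _ _ ih1 ih2 =>
    obtain ⟨i, hi, q, rfl⟩ := ih1
    obtain ⟨j, hj, r, rfl⟩ := ih2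
    exact ⟨i.sup j, good_sup hi hj, map (le_sup_l i j) q + map (le_sup_r i j) r,
      by rw [map_add, ev_map, ev_map]⟩
  | mul _ _ ih1 ih2 =>
    obtain ⟨i, hi, q, rfl⟩ := ih1
    obtain ⟨j, hj, r, rfl⟩ := ih2
    exact ⟨i.sup j, good_sup hi hj, map (le_sup_l i j) q * map (le_sup_r i j) r,
      by rw [map_mul, ev_map, ev_map]⟩
  | @sq b _ _ ih1 ih2 =>
    obtain ⟨i, hi, q, hq⟩ := ih1
    obtain ⟨j, hj, r, hr⟩ := ih2
    exact exists_good_insert (good_sup hi hj) b (· ^ 2) (· ^ 3) (fun s => s ^ 2) (fun s => s ^ 3)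
      (fun φ s => ⟨map_pow φ s 2, map_pow φ s 3⟩) rfl rfl (fun _ => InCl.sq)
      (map (le_sup_l i j) q) (map (le_sup_r i j) r) (by rw [ev_map, hq]) (by rw [ev_map, hr])
  | @pr b ℓ h0 hℓ _ _ ih1 ih2 =>
    obtain ⟨i, hi, q, hq⟩ := ih1
    obtain ⟨j, hj, r, hr⟩ := ih2
    exact exists_good_insert (good_sup hi hj) b (fun s => (ℓ : B) * s) (· ^ ℓ)
      (fun s => (ℓ : _) * s) (fun s => s ^ ℓ)
      (fun φ s => ⟨by simp, map_pow φ s ℓ⟩) rfl rfl (fun _ => InCl.pr ℓ h0 hℓ)
      (map (le_sup_l i j) q) (map (le_sup_r i j) r) (by rw [ev_map, hq]) (by rw [ev_map, hr])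

theorem map_var {i j : Idx A B} (h : i ≤ j) (e : i.E) :
    map h (i.var e) = j.var ⟨e.1, h.1 e.2⟩ := by
  rw [var, var, map_mk, ren, rename_X]

open scoped Classical in
theorem exists_good_of_forall (k : Idx A B)
    (h : ∀ e : k.E, ∃ q : k.Q, InCl hp A q ∧ k.ev q = (e : B)) :
    ∃ m, k ≤ m ∧ m.Good hp := by
  choose q hq hev using h
  choose p hp'' using fun e => Ideal.Quotient.mk_surjective (q e)
  let S : Finset (MvPolynomial k.E A) := Finset.univ.image fun e : k.E => X e - ren subset_rfl (p e)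
  have hS : ∀ r ∈ S, aeval (fun e : k.E => (e : B)) r = 0 := by
    intro r hr
    obtain ⟨e, -, rfl⟩ := Finset.mem_image.1 hr
    rw [map_sub, aeval_X, aeval_ren, ← ev_mk, hp'', hev, sub_self]
  refine ⟨k.enlarge k.E subset_rfl S hS, k.le_enlarge _ _ _ _, (good_iff _).2 fun (e : k.E) => ?_⟩
  have h1 := enlarge_eq k k.E subset_rfl S hS (X e) (ren subset_rfl (p e))
    (Finset.mem_image_of_mem _ (Finset.mem_univ _))
  have h2 := (hq e).map (map (k.le_enlarge k.E subset_rfl S hS))
  rw [← hp'', map_mk] at h2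
  have h3 : ∀ {x y : (k.enlarge k.E subset_rfl S hS).Q}, x = y → InCl hp A y → InCl hp A x :=
    fun e h => e ▸ h
  exact h3 h1 h2

open scoped Classical in
theorem exists_good_ge (hker : RingHom.ker (algebraMap A B) ≤ nilradical A)
    (hall : ∀ b : B, InCl hp A b) (i : Idx A B) : ∃ j, i ≤ j ∧ j.Good hp := by
  have key : ∀ T : Finset B, ∃ j : Idx A B, j.Good hp ∧ ∀ b ∈ T, ∃ q : j.Q, j.ev q = b := by
    intro T
    induction T using Finset.induction_on with
    | empty =>
      exact ⟨⟨∅, ∅, by simp⟩, (good_iff _).2 (fun e => absurd e.2 (Finset.notMem_empty _)),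
        by simp⟩
    | @insert b T _ ih =>
      obtain ⟨j, hj, hT⟩ := ih
      obtain ⟨k, hk, q, hq⟩ := exists_good hker (hall b)
      refine ⟨j.sup k, good_sup hj hk, fun c hc => ?_⟩
      rcases Finset.mem_insert.1 hc with rfl | hc
      · exact ⟨map (le_sup_r j k) q, by rw [ev_map, hq]⟩
      · obtain ⟨r, hr⟩ := hT c hc
        exact ⟨map (le_sup_l j k) r, by rw [ev_map, hr]⟩
  obtain ⟨j, hj, hT⟩ := key i.E
  obtain ⟨m, hm, hgood⟩ := exists_good_of_forall (hp := hp) (i.sup j) (fun e => by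
    rcases Finset.mem_union.1 e.2 with he | he
    · obtain ⟨q, hq⟩ := hT e he
      exact ⟨map (le_sup_r i j) q, (hj q).map _, by rw [ev_map, hq]⟩
    · exact ⟨map (le_sup_r i j) (j.var ⟨e, he⟩), (hj _).map _,
        by rw [ev_map, var, ev_mk, aeval_X]⟩)
  exact ⟨m, (le_sup_l i j).trans hm, hgood⟩

end Idx

/-- the stages all of whose elements are obtained by elementary steps -/
abbrev GoodIdx (A B : Type u) [CommRing A] [CommRing B] [Algebra A B] (hp : Prop) : Type u :=
  {i : Idx A B // i.Good hp}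

open scoped Classical in
instance : Nonempty (GoodIdx A B hp) :=
  ⟨⟨⟨∅, ∅, by simp⟩, (Idx.good_iff _).2 (fun e => absurd e.2 (Finset.notMem_empty _))⟩⟩

instance : IsDirectedOrder (GoodIdx A B hp) :=
  ⟨fun i j => ⟨⟨i.1.sup j.1, Idx.good_sup i.2 j.2⟩, Idx.le_sup_l _ _, Idx.le_sup_r _ _⟩⟩

variable (A B)

/-- the diagram of good stages -/
noncomputable def diag : GoodIdx A B hp ⥤ Under (CommRingCat.of A) where
  obj i := CommRingCat.mkUnder (CommRingCat.of A) i.1.Q
  map h := AlgHom.toUnder (R := CommRingCat.of A) (Idx.map (leOfHom h))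
  map_id i := CommRingCat.mkUnder_ext (R := CommRingCat.of A) fun q => by
    obtain ⟨q, rfl⟩ := Ideal.Quotient.mk_surjective q
    show Idx.map (leOfHom (𝟙 i)) (Ideal.Quotient.mk _ q) = Ideal.Quotient.mk _ q
    rw [Idx.map_mk, Idx.ren_id]
  map_comp f g := CommRingCat.mkUnder_ext (R := CommRingCat.of A) fun q => by
    obtain ⟨q, rfl⟩ := Ideal.Quotient.mk_surjective q
    show Idx.map (leOfHom (f ≫ g)) (Ideal.Quotient.mk _ q) =
      Idx.map (leOfHom g) (Idx.map (leOfHom f) (Ideal.Quotient.mk _ q))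
    rw [Idx.map_mk, Idx.map_mk, Idx.map_mk, Idx.ren_ren]

/-- its cocone -/
noncomputable def diagCocone : Cocone (diag A B hp) where
  pt := CommRingCat.mkUnder (CommRingCat.of A) B
  ι.app i := AlgHom.toUnder (R := CommRingCat.of A) i.1.ev
  ι.naturality i j h := CommRingCat.mkUnder_ext (R := CommRingCat.of A) fun q =>
    Idx.ev_map (leOfHom h) q

variable {A B hp}

theorem diagCocone_isColimit (hker : RingHom.ker (algebraMap A B) ≤ nilradical A)
    (hall : ∀ b : B, InCl hp A b) : Nonempty (IsColimit (diagCocone A B hp)) := by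
  haveI : IsConnected (GoodIdx A B hp) := IsFiltered.isConnected _
  refine ⟨isColimitOfReflects (Under.forget (CommRingCat.of A)) ?_⟩
  have := reflectsColimit_of_reflectsIsomorphisms
    (diag A B hp ⋙ Under.forget (CommRingCat.of A)) (forget CommRingCat.{u})
  refine isColimitOfReflects (forget CommRingCat.{u}) (Types.FilteredColimit.isColimitOf' _ _ ?_ ?_)
  · intro b
    obtain ⟨i, hi, q, hq⟩ := Idx.exists_good hker (hall b)
    exact ⟨⟨i, hi⟩, q, hq.symm⟩
  · intro i x y h
    obtain ⟨p, rfl⟩ := Ideal.Quotient.mk_surjective x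
    obtain ⟨p', rfl⟩ := Ideal.Quotient.mk_surjective y
    classical
    have hS : ∀ r ∈ ({p - p'} : Finset (MvPolynomial i.1.E A)),
        MvPolynomial.aeval (fun e : i.1.E => (e : B)) r = 0 := by
      intro r hr
      rw [Finset.mem_singleton.1 hr, map_sub, sub_eq_zero]
      exact h
    let j := i.1.enlarge i.1.E subset_rfl {p - p'} hS
    have hle : i.1 ≤ j := i.1.le_enlarge _ _ _ _
    have hgood : j.Good hp := (Idx.good_iff _).2 fun (e : i.1.E) => by
      have := (i.2 (i.1.var e)).map (Idx.map hle)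
      rw [Idx.map_var] at this
      exact this
    refine ⟨⟨j, hgood⟩, homOfLE (show i ≤ ⟨j, hgood⟩ from hle), ?_⟩
    have := i.1.enlarge_eq i.1.E subset_rfl {p - p'} hS p p' (Finset.mem_singleton_self _)
    show Idx.map hle (Ideal.Quotient.mk _ p) = Idx.map hle (Ideal.Quotient.mk _ p')
    rw [Idx.map_mk, Idx.map_mk]
    exact ((congrArg _ (Idx.ren_id (E := i.1.E) subset_rfl p)).trans this).trans
      (congrArg _ (Idx.ren_id (E := i.1.E) subset_rfl p')).symm

theorem diag_props (hker : RingHom.ker (algebraMap A B) ≤ nilradical A) (i : GoodIdx A B hp) :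
    ((diag A B hp).obj i).hom.hom.FinitePresentation ∧
      FlatMor.IsUnivHomeo (Spec.map ((diag A B hp).obj i).hom) ∧
      (¬ hp → ∀ x, Function.Surjective ((Spec.map ((diag A B hp).obj i).hom).residueFieldMap x)) := by
  refine ⟨?_, isUnivHomeo_iff.2 ⟨integral_of_all i.2, ri_of_all i.2, fun a ha => hker ?_⟩,
    fun h => residueFieldMap_surjective_iff.2 (tr_of_all h i.2)⟩
  · exact RingHom.finitePresentation_algebraMap.2
      (Algebra.FinitePresentation.quotient ⟨i.1.R, rfl⟩)
  · rw [RingHom.mem_ker, ← i.1.ev.commutes a, RingHom.mem_ker.1 ha, map_zero]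

end Presentation

end Groth.Agent.UH57
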