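import Groth.Agent.UH57.Basic
import Mathlib.RingTheory.IntegralClosure.Algebra.Basic
import Mathlib.RingTheory.Ideal.MinimalPrime.Basic

set_option autoImplicit false
universe u

namespace Groth.Agent.UH57

/-- small exponent trick -/
theorem exists_sq_cube_of_pow {B : Type u} [CommRing B] (C : Subring B) {b : B} (hb : b ∉ C)
    (M : ℕ) (hM : ∀ m ≥ M, b ^ m ∈ C) : ∃ b', b' ∉ C ∧ b' ^ 2 ∈ C ∧ b' ^ 3 ∈ C := by
  classical
  have hex : ∃ k, ∀ m ≥ k, b ^ m ∈ C := ⟨M, hM⟩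
  have hk := Nat.find_spec hex
  obtain ⟨j, hj⟩ : ∃ j, Nat.find hex = j + 2 := by
    refine ⟨Nat.find hex - 2, ?_⟩
    have : ¬ Nat.find hex ≤ 1 := fun h => hb (by simpa using hk 1 h)
    omega
  refine ⟨b ^ (j + 1), fun h => ?_, ?_, ?_⟩
  · refine Nat.find_min hex (m := j + 1) (by omega) fun m hm => ?_
    obtain rfl | h' := eq_or_lt_of_le hm
    · exact h
    · exact hk m (by omega)
  · rw [← pow_mul]; exact hk _ (by omega)
  · rw [← pow_mul]; exact hk _ (by omega)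

theorem exists_mul_pow_mem {A : Type u} [CommRing A] {J p : Ideal A} (hp : p ∈ J.minimalPrimes)
    {a : A} (ha : a ∈ p) : ∃ t, t ∉ p ∧ ∃ k : ℕ, t * a ^ k ∈ J := by
  have := hp.1.1
  by_contra! h
  obtain ⟨q, hq, hJq, hdq⟩ := Ideal.exists_le_prime_disjoint J (p.primeCompl ⊔ Submonoid.powers a)
    (Set.disjoint_left.2 fun x hx hx' => by
      obtain ⟨y, hy, z, ⟨k, rfl⟩, rfl⟩ := Submonoid.mem_sup.1 hx'
      exact h y hy k hx)
  have hqp : q ≤ p := fun x hx => by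
    by_contra hxp
    exact Set.disjoint_left.1 hdq hx (Submonoid.mem_sup_left hxp)
  exact Set.disjoint_left.1 hdq (hp.2 ⟨hq, hJq⟩ hqp ha)
    (Submonoid.mem_sup_right (Submonoid.mem_powers a))

section
variable {A B : Type u} [CommRing A] [CommRing B] [Algebra A B]

theorem exists_mul_pow_mem_map (hinj : Function.Injective (PrimeSpectrum.comap (algebraMap A B)))
    {p : Ideal A} [p.IsPrime] {Q : Ideal B} (hQ : Q.IsPrime) (hQp : Q.comap (algebraMap A B) = p)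
    {c : B} (hc : c ∈ Q) :
    ∃ t, t ∉ p ∧ ∃ k : ℕ, algebraMap A B t * c ^ k ∈ p.map (algebraMap A B) := by
  by_contra! h
  obtain ⟨q, hq, hJq, hdq⟩ := Ideal.exists_le_prime_disjoint (p.map (algebraMap A B))
    (p.primeCompl.map (algebraMap A B) ⊔ Submonoid.powers c)
    (Set.disjoint_left.2 fun x hx hx' => by
      obtain ⟨y, ⟨t, ht, rfl⟩, z, ⟨k, rfl⟩, rfl⟩ := Submonoid.mem_sup.1 hx'
      exact h t ht k hx)
  have hqp : q.comap (algebraMap A B) = p := by
    refine le_antisymm (fun x hx => ?_) (Ideal.map_le_iff_le_comap.1 hJq)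
    by_contra hxp
    exact Set.disjoint_left.1 hdq hx (Submonoid.mem_sup_left ⟨x, hxp, rfl⟩)
  have hqQ : q = Q := congrArg PrimeSpectrum.asIdeal
    (hinj (a₁ := ⟨q, hq⟩) (a₂ := ⟨Q, hQ⟩) (PrimeSpectrum.ext (hqp.trans hQp.symm)))
  exact Set.disjoint_left.1 hdq (hqQ ▸ hc) (Submonoid.mem_sup_right (Submonoid.mem_powers c))

open scoped Classical in
/-- the finite case of the existence of an elementary step -/
theorem exists_step_finite [Module.Finite A B] (hns : ¬ Function.Surjective (algebraMap A B))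
    (hri : RI A B) :
    ∃ b ∉ (algebraMap A B).range, (b ^ 2 ∈ (algebraMap A B).range ∧ b ^ 3 ∈ (algebraMap A B).range) ∨
      (¬ TR A B ∧ ∃ ℓ : ℕ, ℓ.Prime ∧ (ℓ : B) * b ∈ (algebraMap A B).range ∧
        b ^ ℓ ∈ (algebraMap A B).range) := by
  set R := (algebraMap A B).range with hR
  let J : Ideal A :=
    { carrier := {r | ∀ z : B, algebraMap A B r * z ∈ R}
      add_mem' := fun {r r'} h h' z => by rw [map_add, add_mul]; exact add_mem (h z) (h' z)
      zero_mem' := fun z => by rw [map_zero, zero_mul]; exact zero_mem _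
      smul_mem' := fun r r' h z => by
        rw [smul_eq_mul, map_mul, mul_comm (algebraMap A B r), mul_assoc]; exact h _ }
  have hJne : J ≠ ⊤ := fun h => hns fun z => by
    have h1 : (1 : A) ∈ J := by rw [h]; trivial
    exact RingHom.mem_range.1 (show z ∈ R by simpa using h1 z)
  obtain ⟨m, hm, hJm⟩ := Ideal.exists_le_maximal J hJne
  obtain ⟨p, hp, -⟩ := Ideal.exists_minimalPrimes_le (I := J) (J := m) hJm
  have hpp : p.IsPrime := hp.1.1
  obtain ⟨Q, -, hQ, hQp⟩ := Ideal.exists_ideal_over_prime_of_isIntegral (S := B) p ⊥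
    (fun r hr => hp.1.2 (show r ∈ J from fun z => by
      rw [show algebraMap A B r = 0 from hr, zero_mul]; exact zero_mem _))
  have halg : ∀ r, algebraMap A B r ∈ R := fun r => ⟨r, rfl⟩
  let S : Subring B :=
    { carrier := {z | ∃ t, t ∉ p ∧ algebraMap A B t * z ∈ R}
      mul_mem' := by
        rintro z z' ⟨t, ht, h⟩ ⟨t', ht', h'⟩
        exact ⟨t * t', fun h => (hpp.mem_or_mem h).elim ht ht',
          by rw [map_mul, mul_mul_mul_comm]; exact mul_mem h h'⟩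
      one_mem' := ⟨1, (Ideal.ne_top_iff_one p).1 hpp.ne_top, by simp [one_mem]⟩
      add_mem' := by
        rintro z z' ⟨t, ht, h⟩ ⟨t', ht', h'⟩
        refine ⟨t * t', fun h => (hpp.mem_or_mem h).elim ht ht', ?_⟩
        rw [show algebraMap A B (t * t') * (z + z') = algebraMap A B t' * (algebraMap A B t * z) +
          algebraMap A B t * (algebraMap A B t' * z') by rw [map_mul]; ring]
        exact add_mem (mul_mem (halg _) h) (mul_mem (halg _) h')
      zero_mem' := ⟨1, (Ideal.ne_top_iff_one p).1 hpp.ne_top, by simp [zero_mem]⟩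
      neg_mem' := fun {z} ⟨t, ht, h⟩ => ⟨t, ht, by rw [mul_neg]; exact neg_mem h⟩ }
  have hRS : ∀ z ∈ R, z ∈ S := fun z hz =>
    ⟨1, (Ideal.ne_top_iff_one p).1 hpp.ne_top, by simpa using hz⟩
  have hcancel : ∀ {t : A} {z : B}, t ∉ p → algebraMap A B t * z ∈ S → z ∈ S := by
    rintro t z ht ⟨t', ht', h⟩
    exact ⟨t' * t, fun h => (hpp.mem_or_mem h).elim ht' ht, by rw [map_mul, mul_assoc]; exact h⟩
  have hlift : ∀ {z : B} (k : ℕ), z ∉ S → z ^ k ∈ S → ∃ t, t ∉ p ∧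
      algebraMap A B t * z ∉ R ∧ (algebraMap A B t * z) ^ k ∈ R ∨ k = 0 := by
    intro z k hz ⟨t, ht, h⟩
    refine ⟨t, ?_⟩
    rcases k with _ | k
    · exact .inr rfl
    refine .inl ⟨ht, fun h' => hz ⟨t, ht, h'⟩, ?_⟩
    rw [show (algebraMap A B t * z) ^ (k + 1) =
      algebraMap A B (t ^ k) * (algebraMap A B t * z ^ (k + 1)) by rw [map_pow]; ring]
    exact mul_mem (halg _) h
  have hSne : ∃ b, b ∉ S := by
    by_contra! hall
    obtain ⟨G, hG⟩ := Module.Finite.fg_top (R := A) (M := B)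
    choose t ht htz using hall
    have hT : (∏ g ∈ G, t g) ∈ J := fun z => by
      have hz : z ∈ Submodule.span A (G : Set B) := by rw [hG]; trivial
      induction hz using Submodule.span_induction with
      | mem g hg =>
        rw [← Finset.prod_erase_mul G t hg, map_mul, mul_assoc]
        exact mul_mem (halg _) (htz g)
      | zero => rw [mul_zero]; exact zero_mem _
      | add x y _ _ hx hy => rw [mul_add]; exact add_mem hx hy
      | smul r x _ hx =>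
        rw [Algebra.smul_def, mul_left_comm]; exact mul_mem (halg _) hx
    obtain ⟨g, -, hg⟩ := (Ideal.IsPrime.prod_mem_iff (p := p)).1 (hp.1.2 hT)
    exact ht g hg
  let I : Ideal B :=
    { carrier := {z | ∃ t, t ∉ p ∧ ∀ w, algebraMap A B t * (z * w) ∈ R}
      add_mem' := by
        rintro z z' ⟨t, ht, h⟩ ⟨t', ht', h'⟩
        refine ⟨t * t', fun h => (hpp.mem_or_mem h).elim ht ht', fun w => ?_⟩
        rw [show algebraMap A B (t * t') * ((z + z') * w) =
          algebraMap A B t' * (algebraMap A B t * (z * w)) +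
          algebraMap A B t * (algebraMap A B t' * (z' * w)) by rw [map_mul]; ring]
        exact add_mem (mul_mem (halg _) (h w)) (mul_mem (halg _) (h' w))
      zero_mem' := ⟨1, (Ideal.ne_top_iff_one p).1 hpp.ne_top, fun w => by simp [zero_mem]⟩
      smul_mem' := by
        rintro x z ⟨t, ht, h⟩
        exact ⟨t, ht, fun w => by rw [smul_eq_mul, mul_comm x, mul_assoc z]; exact h _⟩ }
  have hpI : p.map (algebraMap A B) ≤ I.radical := by
    refine Ideal.map_le_iff_le_comap.2 fun a ha => ?_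
    obtain ⟨t, ht, k, hk⟩ := exists_mul_pow_mem hp ha
    refine ⟨k, t, ht, fun w => ?_⟩
    have := hk w
    rwa [map_mul, map_pow, mul_assoc] at this
  by_cases hQS : ∃ c ∈ Q, c ∉ S
  · obtain ⟨c, hcQ, hcS⟩ := hQS
    obtain ⟨t, ht, N, hN⟩ := exists_mul_pow_mem_map hri.1 hQ hQp hcQ
    obtain ⟨k, t', ht', hk⟩ := hpI hN
    obtain ⟨b, hb, hb2, hb3⟩ := exists_sq_cube_of_pow S hcS (N * k) (fun m hm => by
      obtain ⟨d, rfl⟩ := Nat.exists_eq_add_of_le hm
      refine ⟨t' * t ^ k, fun h => (hpp.mem_or_mem h).elim ht' fun h =>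
        ht (hpp.mem_of_pow_mem _ h), ?_⟩
      rw [show algebraMap A B (t' * t ^ k) * c ^ (N * k + d) =
        algebraMap A B t' * ((algebraMap A B t * c ^ N) ^ k * c ^ d) by
          rw [map_mul, map_pow, mul_pow, pow_add, pow_mul]; ring]
      exact hk _)
    obtain ⟨t2, ht2, h2⟩ := hb2
    obtain ⟨t3, ht3, h3⟩ := hb3
    refine ⟨algebraMap A B (t2 * t3) * b, fun h => hb ⟨t2 * t3, fun h =>
      (hpp.mem_or_mem h).elim ht2 ht3, h⟩, .inl ⟨?_, ?_⟩⟩
    · rw [show (algebraMap A B (t2 * t3) * b) ^ 2 = algebraMap A B (t2 * t3 ^ 2) *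
        (algebraMap A B t2 * b ^ 2) by simp only [map_mul, map_pow]; ring]
      exact mul_mem (halg _) h2
    · rw [show (algebraMap A B (t2 * t3) * b) ^ 3 = algebraMap A B (t2 ^ 3 * t3 ^ 2) *
        (algebraMap A B t3 * b ^ 3) by simp only [map_mul, map_pow]; ring]
      exact mul_mem (halg _) h3
  push Not at hQS
  obtain ⟨b₀, hb₀⟩ := hSne
  have step : ∀ {s a : A} {z : B}, algebraMap A B s ∉ Q →
      algebraMap A B s * z - algebraMap A B a ∈ Q → z ∈ S := by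
    intro s a z hs h
    refine hcancel (t := s) (fun h' => hs (hQp.symm ▸ h' : s ∈ Q.comap (algebraMap A B))) ?_
    simpa using add_mem (hQS _ h) (hRS _ (halg a))
  have hntr : ¬ TR A B := fun htr => by
    obtain ⟨a, s, hs, h⟩ := htr Q hQ b₀
    exact hb₀ (step hs h)
  obtain ⟨a, s, hs, h | ⟨ℓ, n, hℓ, hℓQ, h⟩⟩ := hri.2 Q hQ b₀
  · exact absurd (step hs h) hb₀
  have hex : ∃ k, b₀ ^ ℓ ^ k ∈ S := ⟨n, step hs h⟩
  obtain ⟨k, hk⟩ : ∃ k, Nat.find hex = k + 1 := by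
    refine ⟨Nat.find hex - 1, ?_⟩
    have : Nat.find hex ≠ 0 := fun h0 => hb₀ (by simpa [h0] using Nat.find_spec hex)
    omega
  have hz : b₀ ^ ℓ ^ k ∉ S := Nat.find_min hex (by omega)
  obtain ⟨t₁, ht₁, h₁⟩ : (b₀ ^ ℓ ^ k) ^ ℓ ∈ S := by
    have := Nat.find_spec hex
    rwa [hk, pow_succ, pow_mul] at this
  obtain ⟨t₂, ht₂, h₂⟩ : (ℓ : B) * b₀ ^ ℓ ^ k ∈ S := hQS _ (Q.mul_mem_right _ hℓQ)
  obtain ⟨j, hj⟩ : ∃ j, ℓ = j + 1 := ⟨ℓ - 1, by have := hℓ.pos; omega⟩
  refine ⟨algebraMap A B (t₁ * t₂) * b₀ ^ ℓ ^ k, fun h => hz ⟨t₁ * t₂, fun h =>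
    (hpp.mem_or_mem h).elim ht₁ ht₂, h⟩, .inr ⟨hntr, ℓ, hℓ, ?_, ?_⟩⟩
  · rw [show (ℓ : B) * (algebraMap A B (t₁ * t₂) * b₀ ^ ℓ ^ k) =
      algebraMap A B t₁ * (algebraMap A B t₂ * ((ℓ : B) * b₀ ^ ℓ ^ k)) by rw [map_mul]; ring]
    exact mul_mem (halg _) h₂
  · rw [show (algebraMap A B (t₁ * t₂) * b₀ ^ ℓ ^ k) ^ ℓ = algebraMap A B (t₁ ^ j * t₂ ^ ℓ) *
      (algebraMap A B t₁ * (b₀ ^ ℓ ^ k) ^ ℓ) by
        simp only [map_mul, map_pow, mul_pow]
        rw [show (algebraMap A B t₁) ^ ℓ = (algebraMap A B t₁) ^ j * algebraMap A B t₁ by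
          rw [hj, pow_succ]]
        ring]
    exact mul_mem (halg _) h₁

/-- existence of an elementary step out of a proper subalgebra -/
theorem exists_step (hi : Algebra.IsIntegral A B) (hri : RI A B) (C : Subalgebra A B)
    {b₀ : B} (hb₀ : b₀ ∉ C) :
    ∃ b ∉ C, (b ^ 2 ∈ C ∧ b ^ 3 ∈ C) ∨
      (¬ TR A B ∧ ∃ ℓ : ℕ, ℓ.Prime ∧ (ℓ : B) * b ∈ C ∧ b ^ ℓ ∈ C) := by
  let D : Subalgebra C B := Algebra.adjoin C {b₀}
  have : Module.Finite C D :=
    Module.Finite.iff_fg.2 ((hi.1 b₀).tower_top).fg_adjoin_singleton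
  have : Algebra.IsIntegral C B := Algebra.IsIntegral.tower_top A
  have hrange : ∀ z : D, z ∈ (algebraMap C D).range ↔ (z : B) ∈ C :=
    fun z => ⟨fun ⟨c, hc⟩ => hc ▸ c.2, fun h => ⟨⟨z, h⟩, Subtype.ext rfl⟩⟩
  have hns : ¬ Function.Surjective (algebraMap C D) := fun h =>
    hb₀ ((hrange ⟨b₀, Algebra.subset_adjoin rfl⟩).1 (h _))
  have : Algebra.IsIntegral D B := Algebra.IsIntegral.tower_top C
  have hlift : ∀ q : Ideal D, q.IsPrime → ∃ Q : Ideal B, Q.IsPrime ∧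
      Q.comap (algebraMap D B) = q := fun q hq => by
    obtain ⟨Q, -, h1, h2⟩ := Ideal.exists_ideal_over_prime_of_isIntegral (S := B) q ⊥
      (fun x hx => by
        have : x = 0 := Subtype.ext hx
        rw [this]; exact zero_mem _)
    exact ⟨Q, h1, h2⟩
  have hd : ∀ {q : Ideal D} (x : D) {Q : Ideal B}, Q.comap (algebraMap D B) = q →
      (x ∈ q ↔ (x : B) ∈ Q) := fun x Q h => h ▸ Iff.rfl
  let m : A → C := algebraMap A C
  have htr : TR A B → TR C D := fun htr q hq z => by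
    obtain ⟨Q, hQ, hQq⟩ := hlift q hq
    obtain ⟨a, s, hs, h⟩ := htr Q hQ z
    exact ⟨m a, m s, fun h' => hs ((hd _ hQq).1 h'), (hd _ hQq).2 h⟩
  have hri' : RI C D := by
    refine ⟨fun q q' e => ?_, fun q hq z => ?_⟩
    · obtain ⟨Q, hQ, hQq⟩ := hlift _ q.isPrime
      obtain ⟨Q', hQ', hQq'⟩ := hlift _ q'.isPrime
      have hQQ : (⟨Q, hQ⟩ : PrimeSpectrum B) = ⟨Q', hQ'⟩ := hri.1 (by
        ext a
        have h3 : algebraMap C D (m a) ∈ q.asIdeal ↔ algebraMap C D (m a) ∈ q'.asIdeal :=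
          SetLike.ext_iff.1 (congrArg PrimeSpectrum.asIdeal e) (m a)
        rw [hd _ hQq, hd _ hQq'] at h3
        exact h3)
      apply PrimeSpectrum.ext
      obtain rfl : Q = Q' := congrArg PrimeSpectrum.asIdeal hQQ
      rw [← hQq, ← hQq']
    · obtain ⟨Q, hQ, hQq⟩ := hlift q hq
      obtain ⟨a, s, hs, h⟩ := hri.2 Q hQ z
      refine ⟨m a, m s, fun h' => hs ((hd _ hQq).1 h'), ?_⟩
      rcases h with h | ⟨ℓ, n, hℓ, hℓQ, h⟩
      · exact .inl ((hd _ hQq).2 h)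
      · exact .inr ⟨ℓ, n, hℓ, (hd _ hQq).2 (by simpa using hℓQ), (hd _ hQq).2 h⟩
  obtain ⟨b, hb, hb'⟩ := exists_step_finite hns hri'
  refine ⟨b, fun h => hb ((hrange b).2 h), ?_⟩
  rcases hb' with ⟨h2, h3⟩ | ⟨hn, ℓ, hℓ, h1, h2⟩
  · exact .inl ⟨by simpa using (hrange _).1 h2, by simpa using (hrange _).1 h3⟩
  · exact .inr ⟨fun h => hn (htr h), ℓ, hℓ, by simpa using (hrange _).1 h1,
      by simpa using (hrange _).1 h2⟩

end

end Groth.Agent.UH57
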