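import Groth.Agent.UH57.Cl
import Mathlib.FieldTheory.IsAlgClosed.AlgebraicClosure
import Mathlib.RingTheory.AdjoinRoot

set_option autoImplicit false
universe u
open Polynomial

namespace Groth.Agent.UH57

variable {A : Type u} [CommRing A]

theorem all_inCl_quotient {hp : Prop} (I : Ideal A[X])
    (h : InCl hp A (Ideal.Quotient.mk I X : A[X] ⧸ I)) (b : A[X] ⧸ I) : InCl hp A b := by
  obtain ⟨q, rfl⟩ := Ideal.Quotient.mk_surjective b
  induction q using Polynomial.induction_on with
  | C a => exact .alg a
  | add p q hp hq => rw [map_add]; exact .add hp hq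
  | monomial n a hn =>
    rw [pow_succ, ← mul_assoc, map_mul]
    exact .mul hn h

theorem ker_le_nilradical_quotient (I : Ideal A[X])
    (h : ∀ (K : Type u) [Field K] [IsAlgClosed K] (g : A →+* K),
      ∃ τ : K, I ≤ RingHom.ker (eval₂RingHom g τ)) :
    RingHom.ker (algebraMap A (A[X] ⧸ I)) ≤ nilradical A := by
  intro a ha
  rw [nilradical_eq_sInf, Ideal.mem_sInf]
  intro p hp
  have : p.IsPrime := hp
  let K := AlgebraicClosure p.ResidueField
  let g : A →+* K := (algebraMap p.ResidueField K).comp (algebraMap A p.ResidueField)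
  obtain ⟨τ, hτ⟩ := h K g
  have hC : C a ∈ I := Ideal.Quotient.eq_zero_iff_mem.1 ha
  have := hτ hC
  rw [RingHom.mem_ker, coe_eval₂RingHom, eval₂_C] at this
  rw [← Ideal.algebraMap_residueField_eq_zero]
  exact (algebraMap p.ResidueField K).injective (this.trans (map_zero _).symm)

end Groth.Agent.UH57
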